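import Groth.Agent.SSMod.K755.Plan3
import Groth.Agent.S0047
import Groth.Agent.CurvesB.PushH1
import Groth.Agent.CurvesB.UnitCoh
import Groth.Agent.CurvesB.GenusLib
import Groth.Agent.Models.H36.H1Sum
import Groth.Agent.TwC.K776.Van
import Groth.Agent.Variety.K429.Twist
import Groth.Agent.TFNodal.K236.MonoTwist
import Groth.Agent.Sga7.H591.GeoFib
import Groth.Agent.VarietyB.DimTop

/-!
# Node FIBH1: `H¹` of the scheme-theoretic fibre from `H¹` of the reduced fibre

* `subsingleton_H1_of_generic`: `i : Z ⟶ F` a surjective closed immersion of Noetherian schemes such that the local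
  rings of `F` at the non-closed points are fields: `H¹(Z, O) = 0` implies `H¹(F, O) = 0`.
* `main : K755.SSPlan.FibH1`.
-/

set_option autoImplicit false
universe u
open CategoryTheory CategoryTheory.Limits AlgebraicGeometry TopologicalSpace

namespace K50.FibH1

open Groth.Agent Groth.Agent.CurvesB

/-- The kernel of `O_F ⟶ i_* O_Z` vanishes at the points whose local ring is a field. -/
theorem not_mem_support {F Z : Scheme.{u}} (i : Z ⟶ F) (hs : Function.Surjective i)
    (x : F) (hx : IsField (F.presheaf.stalk x)) : x ∉ CohB1.support (kernel (ClSub.unitToPush i)) := by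
  intro h
  apply h
  have key : ∀ m : (kernel (ClSub.unitToPush i)).presheaf.stalk x, m = 0 := by
    intro m
    obtain ⟨U, hxU, s, rfl⟩ := TopCat.Presheaf.exists_germ_eq (kernel (ClSub.unitToPush i)).presheaf m
    let t : Γ(F, U) := (kernel.ι (ClSub.unitToPush i)).app U s
    have h0 : (i.app U).hom t = 0 := by
      have h1 : (kernel.ι (ClSub.unitToPush i) ≫ ClSub.unitToPush i).app U s = 0 := by
        rw [kernel.condition]; rfl
      exact h1
    have hb : F.basicOpen t = ⊥ := by
      rw [eq_bot_iff]
      intro y hy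
      obtain ⟨z, rfl⟩ := hs y
      have h3 : z ∈ i ⁻¹ᵁ (F.basicOpen t) := hy
      rw [Scheme.preimage_basicOpen i t] at h3
      have h6 : Z.basicOpen ((i.app U).hom t) = ⊥ := by rw [h0, Scheme.basicOpen_zero]
      exact (h6 ▸ h3 : z ∈ (⊥ : Z.Opens)).elim
    have hg : F.presheaf.germ U x hxU t = 0 := by
      by_contra hne
      have hu : IsUnit (F.presheaf.germ U x hxU t) := by
        obtain ⟨w, hw⟩ := hx.mul_inv_cancel hne
        exact IsUnit.of_mul_eq_one _ hw
      have h4 : x ∈ F.basicOpen t := (F.mem_basicOpen t x hxU).2 hu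
      rw [hb] at h4
      exact h4
    obtain ⟨W, hxW, iU, iU', hW⟩ := TopCat.Presheaf.germ_eq F.presheaf x hxU hxU t 0 (by rw [hg, map_zero])
    have h5 : (kernel (ClSub.unitToPush i)).presheaf.map iU.op s = 0 := by
      have hinj : Function.Injective ((kernel.ι (ClSub.unitToPush i)).app W) :=
        Groth.Agent.Sga67.IdealTorsion.app_injective_of_mono (kernel.ι (ClSub.unitToPush i)) W
      apply hinj
      rw [map_zero]
      have h6 : F.presheaf.map iU.op t = 0 := by rw [hW, map_zero]
      have h7 := congr($((kernel.ι (ClSub.unitToPush i)).mapPresheaf.naturality iU.op) s)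
      exact h7.trans h6
    rw [← TopCat.Presheaf.germ_res_apply _ iU x hxW s, h5, map_zero]
  exact ⟨fun a b => (key a).trans (key b).symm⟩

/-- The abstract criterion. -/
theorem subsingleton_H1 {k : Type u} [Field k] {F Z : Scheme.{u}} (g : F ⟶ Spec (CommRingCat.of k)) [IsProper g]
    (i : Z ⟶ F) [IsClosedImmersion i] (hs : Function.Surjective i)
    (hgen : ∀ x : F, ¬ IsClosed ({x} : Set F) → IsField (F.presheaf.stalk x))
    (hZ : Subsingleton (Coh.HH Z (Coh.structureModule Z) 1)) :
    Subsingleton (Coh.HH F (Coh.structureModule F) 1) := by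
  let _ : F.Over (Spec (CommRingCat.of k)) := ⟨g⟩
  let _ : Z.Over (Spec (CommRingCat.of k)) := ⟨i ≫ g⟩
  have hN : IsNoetherian F := GenusLib.isNoetherian_of_proper g
  have hS := K776.PicDef.seq_shortExact i
  have hO := UnitCoh.isCoh_structureModule F
  have hZc := UnitCoh.isCoh_structureModule Z
  have hQ : Coh.IsQCoh (Coh.structureModule Z) := hZc.1
  have hK : Coh.IsCoh (kernel (ClSub.unitToPush i)) :=
    Sga67.CohBasic.isCoh_kernel _ hO (Sga67.CohBasic.isQCoh_push i hZc.1)
  have h1 := Groth.Agent.S0047.result F _ hK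
    (fun x hx => by_contra fun hc => not_mem_support i hs x (hgen x hc) hx) 1 one_pos
  obtain ⟨e⟩ := PushH1.exists_linearEquiv i k rfl (Coh.structureModule Z)
  have h3 : Subsingleton (Coh.HH F ((Coh.push i).obj (Coh.structureModule Z)) 1) := e.symm.toEquiv.subsingleton
  exact K429.Twist.subsingleton_mid hS 1 h1 h3

theorem isField_of_surjective {A B : Type u} [CommRing A] [CommRing B] [Nontrivial B] (hA : IsField A)
    (f : A →+* B) (hf : Function.Surjective f) : IsField B := by
  let _ := hA.toField
  exact (RingEquiv.ofBijective f ⟨f.injective, hf⟩).symm.toMulEquiv.isField hA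

theorem main : K755.SSPlan.FibH1.{u} := by
  intro R _ _ _ _ X Y σ ψ _ _ hnod y hy hyc T hT hσ _ hH
  have hsc : IsClosed ({ψ y} : Set (Spec (CommRingCat.of R))) := by
    rw [hy]; exact IsLocalRing.isClosed_singleton_closedPoint R
  have hci : IsClosedImmersion (Y.fromSpecResidueField y) := isClosed_singleton_iff_isClosedImmersion.mp hyc
  have hci' : IsClosedImmersion (σ.fiberι y) := MorphismProperty.pullback_fst _ _ hci
  have hcj : IsClosedImmersion ((Spec (CommRingCat.of R)).fromSpecResidueField (ψ y)) :=
    isClosed_singleton_iff_isClosedImmersion.mp hsc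
  have hcj' : IsClosedImmersion ((σ ≫ ψ).fiberι (ψ y)) := MorphismProperty.pullback_fst _ _ hcj
  have hpr : IsProper (σ.fiberToSpecResidueField y) := MorphismProperty.pullback_snd _ _ inferInstance
  -- the fibre of the nodal family
  have hnf : Curv2.IsNodalFamily ((σ ≫ ψ).fiberToSpecResidueField (ψ y)) :=
    Sga7.H591.GeoFib.isNodalFamily_of_isPullback (σ ≫ ψ) hnod _ ((σ ≫ ψ).fiberι (ψ y))
      ((Spec (CommRingCat.of R)).fromSpecResidueField (ψ y)) (IsPullback.of_hasPullback _ _)
  have hred : IsReduced ((σ ≫ ψ).fiber (ψ y)) :=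
    Sga7.H591.GeoFib.isReduced (κ := (Spec (CommRingCat.of R)).residueField (ψ y)) _ hnf
  have hdim : topologicalKrullDim ((σ ≫ ψ).fiber (ψ y)) ≤ 1 := by
    rw [Groth.Agent.VarietyB.DimTop.topologicalKrullDim_eq_iSup_irreducibleComponents]
    exact iSup_le fun Z => ((hnod.2.2 (ψ y)).1 Z.1 Z.2).le
  -- the closed immersion of the fibre of `σ` into the fibre of the family
  let j : σ.fiber y ⟶ (σ ≫ ψ).fiber (ψ y) := pullback.lift (σ.fiberι y)
    (σ.fiberToSpecResidueField y ≫ Spec.map (ψ.residueFieldMap y)) (by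
      rw [Category.assoc, Scheme.Hom.SpecMap_residueFieldMap_fromSpecResidueField, ← Category.assoc, ← Category.assoc]
      congr 1
      exact pullback.condition)
  have hj : j ≫ (σ ≫ ψ).fiberι (ψ y) = σ.fiberι y := pullback.lift_fst _ _ _
  have hjc : IsClosedImmersion j := by
    have : IsClosedImmersion (j ≫ (σ ≫ ψ).fiberι (ψ y)) := by rw [hj]; exact hci'
    exact IsClosedImmersion.of_comp_isClosedImmersion j ((σ ≫ ψ).fiberι (ψ y))
  have hgen : ∀ x : σ.fiber y, ¬ IsClosed ({x} : Set (σ.fiber y)) → IsField ((σ.fiber y).presheaf.stalk x) := by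
    intro x hx
    have h1 : ¬ IsClosed ({j x} : Set ((σ ≫ ψ).fiber (ψ y))) := by
      intro h
      apply hx
      have h2 : ({x} : Set (σ.fiber y)) = j ⁻¹' {j x} := by
        ext z
        exact ⟨fun h => congrArg j h, fun h => j.isClosedEmbedding.injective h⟩
      rw [h2]
      exact h.preimage j.continuous
    exact isField_of_surjective (K236.MonoTwist.isField_of_not_isClosed hdim (j x) h1) (j.stalkMap x).hom
      (j.stalkMap_surjective x)
  -- the reduced fibre
  have hrange : Set.range (σ.fiberι y) = T := by rw [← hσ]; exact σ.range_fiberι y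
  have hker : (σ.fiberι y).ker ≤ (Scheme.IdealSheafData.vanishingIdeal (⟨T, hT⟩ : Closeds X)).subschemeι.ker := by
    rw [Scheme.IdealSheafData.ker_subschemeι, ← Scheme.IdealSheafData.le_support_iff_le_vanishingIdeal]
    intro x hx
    have h1 : x ∈ ((σ.fiberι y).ker.support : Set X) := by
      rw [Scheme.Hom.support_ker]
      exact subset_closure (hrange ▸ hx)
    exact h1
  let i := IsClosedImmersion.lift (σ.fiberι y) _ hker
  have hi : i ≫ σ.fiberι y = _ := IsClosedImmersion.lift_fac (σ.fiberι y) _ hker
  have hic : IsClosedImmersion i := by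
    have : IsClosedImmersion (i ≫ σ.fiberι y) := by rw [hi]; infer_instance
    exact IsClosedImmersion.of_comp_isClosedImmersion i (σ.fiberι y)
  have hs : Function.Surjective i := by
    intro x
    have h1 : σ.fiberι y x ∈ T := hrange ▸ Set.mem_range_self x
    have h2 : σ.fiberι y x ∈ Set.range (Scheme.IdealSheafData.vanishingIdeal (⟨T, hT⟩ : Closeds X)).subschemeι := by
      rw [Scheme.IdealSheafData.range_subschemeι, Scheme.IdealSheafData.coe_support_vanishingIdeal]
      exact h1
    obtain ⟨z, hz⟩ := h2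
    refine ⟨z, (σ.fiberι y).isClosedEmbedding.injective ?_⟩
    rw [← hz, ← hi]
    rfl
  exact subsingleton_H1 (k := Y.residueField y) (σ.fiberToSpecResidueField y) i hs hgen hH

end K50.FibH1
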